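import Cfsg.Agent.H366.OZ.SpFront
import Cfsg.Agent.H559.OZ.SpOdd
import Cfsg.Agent.H477.OZ.SpC
import Cfsg.Agent.H128.OZ.OddCong
import Cfsg.Agent.H364.OZ.Mid

/-!
# S4842: `PSp₆, PSp₈, Ω₇, Ω₉`: everything except the middle value (helper448)

`row_psp3`, `row_psp4`, `row_oodd3`, `row_oodd4`: the row, from the hypothesis that no character with exactly one
class of zeros has sum `p ^ (2 n a)` over the `p`-elements.
-/

set_option autoImplicit false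

open Cfsg Cfsg.Agent.H730.OZ Cfsg.Agent.H477.OZ Cfsg.Agent.H364.OZ

namespace Cfsg.Agent.H448.OZ

universe u

/-! ## Arithmetic -/

/-- a prime with `ord_r(q) = 4` -/
theorem exists_four {q : ℕ} (hq : 2 ≤ q) : ∃ r : ℕ, r.Prime ∧ orderOf ((q : ℕ) : ZMod r) = 4 := by
  have h4 : ¬ 4 ∣ q ^ 2 + 1 := by
    intro h
    rcases Nat.even_or_odd q with ⟨k, hk⟩ | ⟨k, hk⟩
    · subst hk
      have h1 : 4 ∣ (k + k) ^ 2 := ⟨k ^ 2, by ring⟩
      have h2 := (Nat.dvd_add_right h1).1 h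
      omega
    · subst hk
      have h1 : 4 ∣ (2 * k + 1) ^ 2 + 3 := ⟨k ^ 2 + k + 1, by ring⟩
      have h2 := (Nat.dvd_sub h1 h)
      have h3 : (2 * k + 1) ^ 2 + 3 - ((2 * k + 1) ^ 2 + 1) = 2 := by omega
      rw [h3] at h2
      omega
  have h5 : 5 ≤ q ^ 2 + 1 := by nlinarith
  obtain ⟨r, hr, hr2, hd⟩ : ∃ r : ℕ, r.Prime ∧ r ≠ 2 ∧ r ∣ q ^ 2 + 1 := by
    by_contra hno
    have h6 : ∀ {d : ℕ}, d.Prime → d ∣ q ^ 2 + 1 → d = 2 := by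
      intro d hd hdd
      by_contra h7
      exact hno ⟨d, hd, h7, hdd⟩
    have h7 := Nat.eq_prime_pow_of_unique_prime_dvd (by omega) h6
    set k := (q ^ 2 + 1).primeFactorsList.length
    rcases Nat.lt_or_ge k 2 with hk | hk
    · have h8 : 2 ^ k ≤ 2 ^ 1 := Nat.pow_le_pow_right two_pos (by omega)
      omega
    · refine h4 ?_
      rw [h7]
      exact (show (4 : ℕ) = 2 ^ 2 by norm_num) ▸ pow_dvd_pow 2 hk
  refine ⟨r, hr, ?_⟩
  have : Fact r.Prime := ⟨hr⟩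
  have h6 : ((q : ℕ) : ZMod r) ^ 2 = -1 := by
    have h7 := (ZMod.natCast_eq_zero_iff (q ^ 2 + 1) r).2 hd
    push_cast at h7
    linear_combination h7
  have h7 : (-1 : ZMod r) ≠ 1 := by
    have : Fact (2 < r) := ⟨by have := hr.two_le; omega⟩
    exact ZMod.neg_one_ne_one
  have h8 : orderOf ((q : ℕ) : ZMod r) ∣ 4 := orderOf_dvd_of_pow_eq_one (by
    rw [show 4 = 2 * 2 by norm_num, pow_mul, h6]; ring)
  have h9 : ¬ orderOf ((q : ℕ) : ZMod r) ∣ 2 := by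
    intro h
    rw [orderOf_dvd_iff_pow_eq_one, h6] at h
    exact h7 h
  have h10 : orderOf ((q : ℕ) : ZMod r) ∈ Nat.divisors 4 := Nat.mem_divisors.2 ⟨h8, by norm_num⟩
  rw [show Nat.divisors 4 = {1, 2, 4} by decide] at h10
  simp only [Finset.mem_insert, Finset.mem_singleton] at h10
  rcases h10 with h | h | h
  · exact absurd (h ▸ one_dvd _) h9
  · exact absurd (h ▸ dvd_rfl) h9
  · exact h

/-- The middle value for `n = 3`. -/
theorem mid_three {p a m r D y : ℕ} {e : ℤ} (ha : 0 < a) (hm0 : 0 < m) (hm : m < 2 * (a * 3 ^ 2))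
    (he : e = 1 ∨ e = -1) (h6 : a * (2 * 3) ∣ 2 * m) (h6' : e = 1 → a * (2 * 3) ∣ m) (hD : D ∣ a * 3)
    (hD' : e = -1 → ¬ D ∣ m) (hr : r.Prime) (hord : orderOf ((p ^ a : ℕ) : ZMod r) = 4)
    (hdv : (r : ℤ) ∣ e * (p : ℤ) ^ m - (p : ℤ) ^ (a * y)) (hy : ¬ 4 ∣ y) : e = 1 ∧ m = a * 6 := by
  have h3 : a * 3 ∣ m := by
    obtain ⟨c, hc⟩ := h6
    exact ⟨c, by nlinarith⟩
  have he1 : e = 1 := by
    rcases he with h | h
    · exact h
    · exact absurd (hD.trans h3) (hD' h)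
  refine ⟨he1, ?_⟩
  obtain ⟨c, hc⟩ := h6' he1
  subst he1
  subst hc
  have hc0 : 0 < c := by
    rcases Nat.eq_zero_or_pos c with h | h
    · subst h; omega
    · exact h
  have hc3 : c < 3 := by
    by_contra h
    have : 3 ≤ c := by omega
    nlinarith
  rcases (by omega : c = 1 ∨ c = 2) with rfl | rfl
  · ring
  · exfalso
    have : Fact r.Prime := ⟨hr⟩
    have h7 := (ZMod.intCast_zmod_eq_zero_iff_dvd _ r).2 hdv
    push_cast at h7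
    set x : ZMod r := ((p : ℕ) : ZMod r) ^ a with hx
    have h8 : x ^ 4 = 1 := by
      have := pow_orderOf_eq_one ((p ^ a : ℕ) : ZMod r)
      rw [hord] at this
      push_cast at this
      exact this
    have h9 : (p : ZMod r) ^ (a * (2 * 3) * 2) = 1 := by
      rw [show a * (2 * 3) * 2 = a * (4 * 3) by ring, pow_mul, ← hx, pow_mul, h8, one_pow]
    rw [h9, pow_mul, ← hx] at h7
    have h10 : x ^ y = 1 := by linear_combination -h7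
    refine hy ?_
    rw [← hord]
    refine orderOf_dvd_of_pow_eq_one ?_
    push_cast
    exact h10

/-- The middle value for `n = 4`. -/
theorem mid_four {p a m : ℕ} {e : ℤ} (ha : 0 < a) (hm0 : 0 < m) (hm : m < 2 * (a * 4 ^ 2)) (he : e = 1 ∨ e = -1)
    (h0 : ∃ r : ℕ, r.Prime ∧ orderOf (p : ZMod r) = a * (2 * 4) ∧ (r : ℤ) ∣ e * (p : ℤ) ^ m - 1)
    (h1 : ∃ r : ℕ, r.Prime ∧ orderOf (p : ZMod r) = a * (2 * (4 - 1)) ∧
      (r : ℤ) ∣ e * (p : ℤ) ^ m - (p : ℤ) ^ (a * 2)) : e = 1 ∧ m = a * 8 := by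
  obtain ⟨t, ht0, ht, hmt, hte⟩ := H167.OZ.exists_t ha le_rfl hm0 hm he h0
  obtain ⟨r, hr, hD, hd⟩ := h1
  have h2 := H167.OZ.red (e' := 1) (k := 1) (n := 4) (y := 2) ha hmt hte (Or.inl rfl) (by norm_num) hr hD
    (by rw [one_mul]; exact hd)
  rw [if_pos rfl] at h2
  have h3 := H167.OZ.t_two (n := 4) le_rfl ht0 ht h2
  subst h3
  refine ⟨?_, by rw [hmt]⟩
  rcases hte with ⟨h, -⟩ | ⟨-, h⟩
  · exact h
  · exact absurd h (by decide)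

/-- The middle values for `n = 4`, `q = 3`. -/
theorem mid_four' {p a m : ℕ} {e : ℤ} (ha : 0 < a) (hm0 : 0 < m) (hm : m < 2 * (a * 4 ^ 2)) (he : e = 1 ∨ e = -1)
    (h0 : ∃ r : ℕ, r.Prime ∧ orderOf (p : ZMod r) = a * (2 * 4) ∧ (r : ℤ) ∣ e * (p : ℤ) ^ m - 1)
    (h1 : ∃ r : ℕ, r.Prime ∧ orderOf (p : ZMod r) = a * (2 * (4 - 1)) ∧
      (r : ℤ) ∣ e * (p : ℤ) ^ m - (-1) * (p : ℤ) ^ (a * 1)) : e = 1 ∧ m = a * 16 := by
  obtain ⟨t, ht0, ht, hmt, hte⟩ := H167.OZ.exists_t ha le_rfl hm0 hm he h0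
  obtain ⟨r, hr, hD, hd⟩ := h1
  have h2 := H167.OZ.red (e' := -1) (k := 1) (n := 4) (y := 1) ha hmt hte (Or.inr rfl) (by norm_num) hr hD hd
  rw [if_neg (by norm_num)] at h2
  have h3 := H167.OZ.t_n (n := 4) le_rfl ht0 ht (by push_cast at h2 ⊢; exact h2)
  subst h3
  refine ⟨?_, by rw [hmt]⟩
  rcases hte with ⟨h, -⟩ | ⟨-, h⟩
  · exact h
  · exact absurd h (by decide)

/-! ## The four rows -/

section psp

variable {S : Type u} [Group S] [Finite S] {F : Type} [Field F] [Fintype F] {p a : ℕ}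

/-- the data of a character with exactly one class of zeros -/
theorem front_psp {n : ℕ} (hs : IsSimpleGroup S) (e : S ≃* PSp n F) (hn : 2 ≤ n) (hp : p.Prime) (ha : 0 < a)
    (hF : Fintype.card F = p ^ a) {χ : S → ℂ} (hχ : IsIrrCharacter S χ) (hz : OneZero χ) :
    ∃ (m : ℕ) (ε : ℤ), ((ε = 1 ∨ ε = -1) ∧ 0 < m ∧ m < 2 * (a * n ^ 2) ∧
      (∀ D, 3 ≤ D → CP p D S → D ∣ 2 * m ∧ (ε = -1 → ¬ D ∣ m) ∧ (ε = 1 → D ∣ m)) ∧
      ∀ r k : ℕ, Cong p r k S → (r : ℤ) ∣ ε * (p : ℤ) ^ m - (p : ℤ) ^ k) ∧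
      ∑ᶠ u ∈ pSet p S, χ u = (ε : ℂ) * (p : ℂ) ^ m * χ 1 := by
  have hch : CharP F p := (H559.OZ.charP_of_card hp hF).1
  exact mid_of_cong hs hp (H366.OZ.fact_psp e (by omega) hp ha hF) (by positivity) (H366.OZ.kaw_psp e (by omega))
    (H366.OZ.not_dvd_psp e hn hp ha hF)
    (Q := fun m ε => (ε = 1 ∨ ε = -1) ∧ 0 < m ∧ m < 2 * (a * n ^ 2) ∧
      (∀ D, 3 ≤ D → CP p D S → D ∣ 2 * m ∧ (ε = -1 → ¬ D ∣ m) ∧ (ε = 1 → D ∣ m)) ∧
      ∀ r k : ℕ, Cong p r k S → (r : ℤ) ∣ ε * (p : ℤ) ^ m - (p : ℤ) ^ k)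
    (fun m ε hε h0 h1 hc => ⟨hε, h0, h1, fun D hD h => h.spec hD hc hε, hc⟩) hχ hz

/-- **`PSp₆(q)`, `q ≥ 4`.** -/
theorem row_psp3 (hs : IsSimpleGroup S) (e : S ≃* PSp 3 F) (hq : 4 ≤ Fintype.card F) (hp : p.Prime) (ha : 0 < a)
    (hF : Fintype.card F = p ^ a)
    (hHC : ∀ χ : S → ℂ, IsIrrCharacter S χ → OneZero χ → ∑ᶠ u ∈ pSet p S, χ u = (p : ℂ) ^ (a * 6) * χ 1 → False) :
    Row S := by
  refine Row.of_none fun χ hχ hz => ?_
  have hch : CharP F p := (H559.OZ.charP_of_card hp hF).1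
  obtain ⟨m, ε, ⟨hε, hm0, hm, hCP, -⟩, hsum⟩ := front_psp hs e (by norm_num) hp ha hF hχ hz
  obtain ⟨r, hr, hord⟩ := exists_four (q := Fintype.card F) (by omega)
  obtain ⟨c, hc, hd⟩ := congS_psp_two e (p := p) (k := 1) (by norm_num) (by norm_num) hq hr hord χ hχ hz m ε hε hsum
  have hc' : c = (p : ℤ) ^ (a * 18) := by
    rcases hc with ⟨h, -⟩ | ⟨-, h, -⟩ | ⟨-, h, -⟩ | ⟨h, -⟩ | ⟨-, -, -, h⟩
    · omega
    · omega
    · omega
    · omega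
    · rw [h, H366.OZ.fact_psp e (by norm_num) hp ha hF]
      congr 1
      ring
  rw [hc'] at hd
  obtain ⟨D, hD1, hD2, hD3⟩ := H559.OZ.exists_cp_psp_odd e le_rfl (by decide) (by omega) hp hF
  have hD0 : 3 ≤ D := by
    have h1 : 0 < D := Nat.pos_of_dvd_of_pos hD1 (by positivity)
    exact Nat.le_of_dvd h1 hD2
  have h6 := hCP _ (by omega) (H559.OZ.cp_psp e (by norm_num) hp hF (by omega) (by omega))
  have h3 := hCP D hD0 hD3
  rw [hF] at hord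
  obtain ⟨h7, h8⟩ := mid_three ha hm0 hm hε h6.1 h6.2.2 hD1 h3.2.1 hr hord hd (by norm_num)
  refine hHC χ hχ hz ?_
  rw [hsum, h7, h8, Int.cast_one, one_mul]

/-- **`PSp₈(q)`, `q ≥ 3`.** -/
theorem row_psp4 (hs : IsSimpleGroup S) (e : S ≃* PSp 4 F) (hq : 3 ≤ Fintype.card F) (hp : p.Prime) (ha : 0 < a)
    (hF : Fintype.card F = p ^ a)
    (hHC : ∀ χ : S → ℂ, IsIrrCharacter S χ → OneZero χ → ∑ᶠ u ∈ pSet p S, χ u = (p : ℂ) ^ (a * 8) * χ 1 → False)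
    (hHC' : Fintype.card F = 3 → ∀ χ : S → ℂ, IsIrrCharacter S χ → OneZero χ →
      ∑ᶠ u ∈ pSet 3 S, χ u = (3 : ℂ) ^ 16 * χ 1 → False) :
    Row S := by
  refine Row.of_none fun χ hχ hz => ?_
  have hch : CharP F p := (H559.OZ.charP_of_card hp hF).1
  obtain ⟨m, ε, ⟨hε, hm0, hm, hCP, hCg⟩, hsum⟩ := front_psp hs e (by norm_num) hp ha hF hχ hz
  have h0 : ∃ r : ℕ, r.Prime ∧ orderOf (p : ZMod r) = a * (2 * 4) ∧ (r : ℤ) ∣ ε * (p : ℤ) ^ m - 1 := by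
    obtain ⟨r, hr, hord, hc⟩ := H559.OZ.cp_psp e (by norm_num) hp hF (by omega) (by omega)
    exact ⟨r, hr, hord, by simpa using hCg r 0 hc⟩
  have hpa : p ^ a ≠ 2 := by omega
  obtain ⟨r, hr, hord, hord'⟩ := H167.OZ.exists_r (n := 4) (k := 1) hp ha (by norm_num) (fun h => hpa h.1)
  obtain ⟨c, hc, hd⟩ := spCong_psp e (p := p) (by norm_num) 1 r (by norm_num) (by norm_num) hr (by rw [hF]; exact hord')
    χ hχ hz m ε hε hsum
  rcases hc with ⟨h, -⟩ | ⟨-, h, -⟩ | ⟨-, h, h1⟩ | ⟨h, -⟩ | ⟨-, -, -, h⟩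
  · omega
  · omega
  · rw [h] at hF
    obtain ⟨rfl, rfl⟩ := H167.OZ.prime_of_pow ha Nat.prime_three hF.symm
    rcases h1 with rfl | rfl
    · obtain ⟨h7, h8⟩ := mid_four ha hm0 hm hε h0 ⟨r, hr, hord, by norm_num at hd ⊢; exact hd⟩
      refine hHC χ hχ hz ?_
      rw [hsum, h7, h8, Int.cast_one, one_mul]
    · obtain ⟨h7, h8⟩ := mid_four' ha hm0 hm hε h0 ⟨r, hr, hord, by norm_num at hd ⊢; exact hd⟩
      refine hHC' h χ hχ hz ?_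
      rw [hsum, h7, h8, Int.cast_one, one_mul]
      norm_num
  · omega
  · have h2 := H366.OZ.pow_swap (n := 4) (k := 1) (a := a) (p := p) (r := r) (by norm_num) hord
    have h3 : (r : ℤ) ∣ ε * (p : ℤ) ^ m - (p : ℤ) ^ (a * 2) := by
      rw [h, H366.OZ.fact_psp e (by norm_num) hp ha hF] at hd
      have h4 := dvd_add hd h2
      rw [sub_add_sub_cancel, show 2 * a * 1 ^ 2 = a * 2 by ring] at h4
      exact h4
    obtain ⟨h7, h8⟩ := mid_four ha hm0 hm hε h0 ⟨r, hr, hord, h3⟩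
    refine hHC χ hχ hz ?_
    rw [hsum, h7, h8, Int.cast_one, one_mul]

/-- **`PSp₈(q)`, `q ≥ 3`**, with the congruence modulo `13` for `q = 3`. -/
theorem row_psp4_of (hs : IsSimpleGroup S) (e : S ≃* PSp 4 F) (hq : 3 ≤ Fintype.card F) (hp : p.Prime) (ha : 0 < a)
    (hF : Fintype.card F = p ^ a) (h13 : Fintype.card F = 3 → CongS 3 13 {9, -3} S)
    (hHC : ∀ χ : S → ℂ, IsIrrCharacter S χ → OneZero χ → ∑ᶠ u ∈ pSet p S, χ u = (p : ℂ) ^ (a * 8) * χ 1 → False) :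
    Row S := by
  refine row_psp4 hs e hq hp ha hF hHC fun h χ hχ hz hsum => ?_
  obtain ⟨c, hc, hd⟩ := h13 h χ hχ hz 16 1 (Or.inl rfl) (by rw [hsum]; norm_num)
  simp only [Set.mem_insert_iff, Set.mem_singleton_iff] at hc
  rcases hc with rfl | rfl
  · norm_num at hd
  · norm_num at hd

end psp

section oodd

variable {S : Type u} [Group S] [Finite S] {F : Type} [Field F] [Fintype F] {p a : ℕ}

/-- the data of a character with exactly one class of zeros -/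
theorem front_oodd {n : ℕ} (hs : IsSimpleGroup S) (e : S ≃* POmega F (quadFormOdd n F)) (ho : Odd (Fintype.card F))
    (hn : 3 ≤ n) (hp : p.Prime) (ha : 0 < a)
    (hF : Fintype.card F = p ^ a) {χ : S → ℂ} (hχ : IsIrrCharacter S χ) (hz : OneZero χ) :
    ∃ (m : ℕ) (ε : ℤ), ((ε = 1 ∨ ε = -1) ∧ 0 < m ∧ m < 2 * (a * n ^ 2) ∧
      (∀ D, 3 ≤ D → CP p D S → D ∣ 2 * m ∧ (ε = -1 → ¬ D ∣ m) ∧ (ε = 1 → D ∣ m)) ∧
      ∀ r k : ℕ, Cong p r k S → (r : ℤ) ∣ ε * (p : ℤ) ^ m - (p : ℤ) ^ k) ∧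
      ∑ᶠ u ∈ pSet p S, χ u = (ε : ℂ) * (p : ℂ) ^ m * χ 1 := by
  have hch : CharP F p := (H559.OZ.charP_of_card hp hF).1
  exact mid_of_cong hs hp (H366.OZ.fact_oodd e ho hn hp ha hF) (by positivity) (H366.OZ.kaw_oodd e ho (by omega))
    (H366.OZ.not_dvd_oodd e ho hn hp ha hF)
    (Q := fun m ε => (ε = 1 ∨ ε = -1) ∧ 0 < m ∧ m < 2 * (a * n ^ 2) ∧
      (∀ D, 3 ≤ D → CP p D S → D ∣ 2 * m ∧ (ε = -1 → ¬ D ∣ m) ∧ (ε = 1 → D ∣ m)) ∧
      ∀ r k : ℕ, Cong p r k S → (r : ℤ) ∣ ε * (p : ℤ) ^ m - (p : ℤ) ^ k)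
    (fun m ε hε h0 h1 hc => ⟨hε, h0, h1, fun D hD h => h.spec hD hc hε, hc⟩) hχ hz

/-- **`Ω₇(q)`, `q` odd.** -/
theorem row_oodd3 (hs : IsSimpleGroup S) (e : S ≃* POmega F (quadFormOdd 3 F)) (ho : Odd (Fintype.card F))
    (hp : p.Prime) (ha : 0 < a) (hF : Fintype.card F = p ^ a)
    (hKC : ∀ r : ℕ, r.Prime → orderOf ((Fintype.card F : ℕ) : ZMod r) = 2 * (3 - 1) → Cong p r (2 * a * 1 ^ 2) S)
    (hHC : ∀ χ : S → ℂ, IsIrrCharacter S χ → OneZero χ → ∑ᶠ u ∈ pSet p S, χ u = (p : ℂ) ^ (a * 6) * χ 1 → False) :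
    Row S := by
  refine Row.of_none fun χ hχ hz => ?_
  have hq : 3 ≤ Fintype.card F := by
    obtain ⟨k, hk⟩ := ho
    have := Fintype.one_lt_card (α := F)
    omega
  obtain ⟨m, ε, ⟨hε, hm0, hm, hCP, hCg⟩, hsum⟩ := front_oodd hs e ho le_rfl hp ha hF hχ hz
  obtain ⟨r, hr, hord⟩ := exists_four (q := Fintype.card F) (by omega)
  have hd := hCg r _ (hKC r hr hord)
  rw [show 2 * a * 1 ^ 2 = a * 2 by ring] at hd
  have h6 := hCP _ (by nlinarith) (H128.OZ.cp_oodd_minus ho le_rfl e hp hF)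
  have h3 := hCP _ (by omega) (H128.OZ.cp_oodd_plus ho le_rfl (by decide) e hp hF)
  rw [show 2 * 3 * a = a * (2 * 3) by ring] at h6
  rw [hF] at hord
  obtain ⟨h7, h8⟩ := mid_three ha hm0 hm hε h6.1 h6.2.2 (D := 3 * a) ⟨1, by ring⟩ h3.2.1 hr hord hd (by norm_num)
  refine hHC χ hχ hz ?_
  rw [hsum, h7, h8, Int.cast_one, one_mul]

/-- **`Ω₉(q)`, `q` odd.** -/
theorem row_oodd4 (hs : IsSimpleGroup S) (e : S ≃* POmega F (quadFormOdd 4 F)) (ho : Odd (Fintype.card F))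
    (hp : p.Prime) (ha : 0 < a) (hF : Fintype.card F = p ^ a)
    (hKC : ∀ r : ℕ, r.Prime → orderOf ((Fintype.card F : ℕ) : ZMod r) = 2 * (4 - 1) → Cong p r (2 * a * 1 ^ 2) S)
    (hHC : ∀ χ : S → ℂ, IsIrrCharacter S χ → OneZero χ → ∑ᶠ u ∈ pSet p S, χ u = (p : ℂ) ^ (a * 8) * χ 1 → False) :
    Row S := by
  refine Row.of_none fun χ hχ hz => ?_
  have hpa : p ^ a ≠ 2 := by
    rintro h
    rw [hF, h] at ho
    exact absurd ho (by decide)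
  obtain ⟨m, ε, ⟨hε, hm0, hm, hCP, hCg⟩, hsum⟩ := front_oodd hs e ho (by norm_num) hp ha hF hχ hz
  have h0 : ∃ r : ℕ, r.Prime ∧ orderOf (p : ZMod r) = a * (2 * 4) ∧ (r : ℤ) ∣ ε * (p : ℤ) ^ m - 1 := by
    obtain ⟨r, hr, hord, hc⟩ := H128.OZ.cp_oodd_minus ho (by norm_num) e hp hF
    exact ⟨r, hr, by rw [hord]; ring, by simpa using hCg r 0 hc⟩
  obtain ⟨r, hr, hord, hord'⟩ := H167.OZ.exists_r (n := 4) (k := 1) hp ha (by norm_num) (fun h => hpa h.1)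
  have hd := hCg r _ (hKC r hr (by rw [hF]; exact hord'))
  rw [show 2 * a * 1 ^ 2 = a * 2 by ring] at hd
  obtain ⟨h7, h8⟩ := mid_four ha hm0 hm hε h0 ⟨r, hr, hord, hd⟩
  refine hHC χ hχ hz ?_
  rw [hsum, h7, h8, Int.cast_one, one_mul]

end oodd

end Cfsg.Agent.H448.OZ
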