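import Cfsg.Agent.H448.OZ.BCMid
import Cfsg.Agent.H205.OZ.Row

/-!
# S4842: `Ω₇, Ω₉`: everything except the middle value (helper448)
-/

set_option autoImplicit false

open Cfsg Cfsg.Agent.H730.OZ

namespace Cfsg.Agent.H448.OZ

universe u

variable {S : Type u} [Group S] [Finite S] {F : Type} [Field F] [Fintype F] {p a : ℕ}

/-- **`Ω₇(q)`, `q ≥ 5` odd.** -/
theorem row_seven (hs : IsSimpleGroup S) (e : S ≃* POmega F (quadFormOdd 3 F)) (ho : Odd (Fintype.card F))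
    (h5 : 5 ≤ Fintype.card F) (hp : p.Prime) (ha : 0 < a) (hF : Fintype.card F = p ^ a)
    (hHC : ∀ χ : S → ℂ, IsIrrCharacter S χ → OneZero χ → ∑ᶠ u ∈ pSet p S, χ u = (p : ℂ) ^ (a * 6) * χ 1 → False) :
    Row S := by
  refine row_oodd3 hs e ho hp ha hF (fun r hr hord => ?_) hHC
  rw [one_pow, mul_one]
  exact H205.OZ.cong_seven ho h5 e hp hr ha hF (by rw [← hF]; exact hord)

/-- **`Ω₉(q)`, `q` odd.** -/
theorem row_nine (hs : IsSimpleGroup S) (e : S ≃* POmega F (quadFormOdd 4 F)) (ho : Odd (Fintype.card F))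
    (hp : p.Prime) (ha : 0 < a) (hF : Fintype.card F = p ^ a)
    (hHC : ∀ χ : S → ℂ, IsIrrCharacter S χ → OneZero χ → ∑ᶠ u ∈ pSet p S, χ u = (p : ℂ) ^ (a * 8) * χ 1 → False) :
    Row S := by
  refine row_oodd4 hs e ho hp ha hF (fun r hr hord => ?_) hHC
  exact H205.OZ.cong_odd ho e (n := 4) (k := 1) (by norm_num) (by norm_num) (by norm_num) hp hr ha hF
    (by rw [← hF]; exact hord)

end Cfsg.Agent.H448.OZ
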